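import Mathlib.Data.Nat.Choose.Sum
import Mathlib.Algebra.BigOperators.Intervals
import Mathlib.Tactic.Ring
import Mathlib.Tactic.Linarith
import Mathlib.Tactic.IntervalCases
import Mathlib.Tactic.NormNum

set_option autoImplicit false

namespace K934.AltSum

/-- The alternating sum `∑_j (-1)^(n-j) C(n,j) j^k`. -/
def T (n k : ℕ) : ℤ :=
  ∑ j ∈ Finset.range (n + 1), (-1 : ℤ) ^ (n - j) * (n.choose j : ℤ) * (j : ℤ) ^ k

theorem T_zero (n : ℕ) : T (n + 1) 0 = 0 := by
  have h := Int.alternating_sum_range_choose_of_ne (n := n + 1) (Nat.succ_ne_zero n)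
  have h2 : T (n + 1) 0 = (-1) ^ (n + 1) * ∑ m ∈ Finset.range (n + 1 + 1), (-1 : ℤ) ^ m * ((n + 1).choose m : ℤ) := by
    unfold T
    rw [Finset.mul_sum]
    refine Finset.sum_congr rfl fun j hj => ?_
    have hj' : j ≤ n + 1 := Nat.lt_succ_iff.mp (Finset.mem_range.mp hj)
    have e : (-1 : ℤ) ^ (n + 1 - j) = (-1) ^ (n + 1) * (-1) ^ j := by
      have : (-1 : ℤ) ^ (n + 1) = (-1) ^ (n + 1 - j) * (-1) ^ j := by
        rw [← pow_add, Nat.sub_add_cancel hj']
      rw [this, mul_assoc, ← mul_pow]; simp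
    rw [e]; ring
  rw [h2, h, mul_zero]

theorem T_succ (n k : ℕ) : T (n + 1) (k + 1) = (n + 1 : ℤ) * (T (n + 1) k + T n k) := by
  have h1 : T n k = -∑ j ∈ Finset.range (n + 1 + 1), (-1 : ℤ) ^ (n + 1 - j) * (n.choose j : ℤ) * (j : ℤ) ^ k := by
    rw [Finset.sum_range_succ]
    simp only [Nat.choose_succ_self, Nat.cast_zero, mul_zero, zero_mul, add_zero]
    unfold T
    rw [← Finset.sum_neg_distrib]
    refine Finset.sum_congr rfl fun j hj => ?_
    have hj' : j ≤ n := Nat.lt_succ_iff.mp (Finset.mem_range.mp hj)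
    rw [Nat.succ_sub hj', pow_succ]; ring
  rw [h1]
  unfold T
  rw [← sub_eq_add_neg, ← Finset.sum_sub_distrib, Finset.mul_sum]
  refine Finset.sum_congr rfl fun j hj => ?_
  have key : (j : ℤ) * ((n + 1).choose j : ℤ) = (n + 1 : ℤ) * (((n + 1).choose j : ℤ) - (n.choose j : ℤ)) := by
    cases j with
    | zero => simp
    | succ j =>
      have e1 : ((n + 1).choose (j + 1) : ℤ) = n.choose j + n.choose (j + 1) := by
        rw [Nat.choose_succ_succ]; push_cast; ring
      have e2 := Nat.add_one_mul_choose_eq n j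
      have e3 : ((n : ℤ) + 1) * n.choose j = ((n + 1).choose (j + 1) : ℤ) * (j + 1) := by
        exact_mod_cast e2
      push_cast
      rw [mul_comm, ← e3, e1]; ring
  calc (-1 : ℤ) ^ (n + 1 - j) * ((n + 1).choose j : ℤ) * (j : ℤ) ^ (k + 1)
      = (-1 : ℤ) ^ (n + 1 - j) * (j : ℤ) ^ k * ((j : ℤ) * ((n + 1).choose j : ℤ)) := by ring
    _ = _ := by rw [key]; ring

theorem T_eq (n : ℕ) : ∀ k : ℕ, k ≤ n + 1 → T n k =
    (if k = n + 1 then (((n + 1).choose 2 * n.factorial : ℕ) : ℤ)
        else if k = n then (n.factorial : ℤ) else 0) := by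
  induction n with
  | zero =>
    intro k hk
    interval_cases k
    · simp [T]
    · simp [T]
  | succ n ih =>
    intro k
    induction k with
    | zero =>
      intro _
      rw [T_zero]; simp
    | succ k ihk =>
      intro hk
      rw [T_succ, ihk (by omega), ih k (by omega)]
      rcases Nat.lt_trichotomy k n with h | h | h
      · have a1 : k ≠ n + 1 + 1 := by omega
        have a2 : k ≠ n + 1 := by omega
        have a3 : k ≠ n := by omega
        simp [a1, a2, a3]
      · subst h
        have a1 : k ≠ k + 1 + 1 := by omega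
        simp [Nat.factorial_succ, a1]
      · have h' : k = n + 1 := by omega
        subst h'
        simp only [if_true]
        have a1 : n + 1 ≠ n + 1 + 1 := by omega
        rw [if_neg a1]
        have e : (n + 1 + 1).choose 2 = (n + 1).choose 1 + (n + 1).choose 2 := rfl
        rw [e, Nat.choose_one_right, Nat.factorial_succ]
        push_cast; ring

end K934.AltSum
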